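import Cfsg.Agent.GeoClasses.UnitSubfield

/-!
Subfield groups of odd prime index are maximal in `SU_4(q)`.
-/

set_option autoImplicit false

namespace Cfsg.Agent.SU4

open Matrix Cfsg.Geo Cfsg.Agent.Classical.U Cfsg.Agent.ClassicalMax
open scoped MatrixGroups Matrix

variable {F : Type*} [Field F] [Fintype F] {q : ℕ}

/-- Subfield groups of odd prime index are maximal in `SU_4(q)`. -/
theorem suGL_oddSubfield_maximal (hF : SqField F q) {F₀ : Subfield F} {r : ℕ} (hr : r.Prime)
    (hodd : Odd r) (hcard : Fintype.card F = Nat.card F₀ ^ r) {P : GL (Fin 4) F}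
    (hP : IsFormRationalStructure (Cfsg.hermForm 4 F q) F₀ 1 P) :
    IsMaximalIn (suGL 4 F q) (subfieldSubgroup F₀ P ⊓ suGL 4 F q) :=
  GeoClasses.suGL_oddSubfield_maximal hF le_rfl hr hodd hcard hP

end Cfsg.Agent.SU4
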